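import Mathlib
import Groth.Prelude.Def_FDesc
import Groth.Prelude.Def_CohB1
import Groth.Agent.Lib.Helper5.FibAss.Stalk

/-!
# Pullback along a morphism which is bijective on a stalk: associated points and lengths (helper5)
-/

set_option autoImplicit false
set_option linter.unusedSectionVars false
set_option linter.unusedVariables false
set_option backward.isDefEq.respectTransparency.types false
universe u
open CategoryTheory CategoryTheory.Limits AlgebraicGeometry TopologicalSpace TensorProduct IsLocalRing
open Groth.Agent.Lib.Helper5.StalkAdj Groth.Agent.Lib.Helper5.StalkTenS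
open Groth.Agent.Lib.Helper5.FibAss

namespace Groth.Agent.Lib.Helper5.RedOpen

variable {X Y : Scheme.{u}} (f : X ⟶ Y)

/-- the stalk of a pullback at a point where the stalk map is bijective, as a module over the
local ring of the target -/
noncomputable def stalkPullbackEquivOfBijective (E : Y.Modules) (x : X)
    (hb : Function.Bijective (f.stalkMap x).hom) :
    letI := (f.stalkMap x).hom.toAlgebra
    ((X.presheaf.stalk x) ⊗[Y.presheaf.stalk (f x)] (E.presheaf.stalk (f x))) ≃ₗ[Y.presheaf.stalk (f x)]
      (E.presheaf.stalk (f x)) :=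
  letI := (f.stalkMap x).hom.toAlgebra
  TensorProduct.congr
    (LinearEquiv.ofBijective (Algebra.linearMap (Y.presheaf.stalk (f x)) (X.presheaf.stalk x)) hb).symm
    (LinearEquiv.refl _ _) ≪≫ₗ TensorProduct.lid _ _

/-- associated points of a pullback at a point where the stalk map is bijective -/
theorem isAssPoint_pullback_iff_of_bijective (E : Y.Modules) (x : X)
    (hb : Function.Bijective (f.stalkMap x).hom) :
    Curv2.IsAssPoint ((Scheme.Modules.pullback f).obj E) x ↔ Curv2.IsAssPoint E (f x) := by
  letI alg : Algebra (Y.presheaf.stalk (f x)) (X.presheaf.stalk x) := (f.stalkMap x).hom.toAlgebra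
  let G := (Scheme.Modules.pullback f).obj E
  let e1 : (G.presheaf.stalk x) ≃ₗ[X.presheaf.stalk x]
      ((ModuleCat.extendScalars.{u, u, u} (f.stalkMap x).hom).obj ((stalkSh Y (f x)).obj E)) :=
    ((stalkPullbackIso f x).app E).toLinearEquiv
  let e2 : ((ModuleCat.extendScalars.{u, u, u} (f.stalkMap x).hom).obj ((stalkSh Y (f x)).obj E))
      ≃ₗ[X.presheaf.stalk x]
      ((X.presheaf.stalk x) ⊗[Y.presheaf.stalk (f x)] (E.presheaf.stalk (f x))) :=
    Groth.Agent.Helper8.extScalEquiv (R := Y.presheaf.stalk (f x)) (S := X.presheaf.stalk x)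
      ((stalkSh Y (f x)).obj E)
  have h1 : Curv2.IsAssPoint G x ↔ maximalIdeal (X.presheaf.stalk x) ∈
      associatedPrimes (X.presheaf.stalk x)
        ((X.presheaf.stalk x) ⊗[Y.presheaf.stalk (f x)] (E.presheaf.stalk (f x))) :=
    LinearEquiv.isAssociatedPrime_iff (e1 ≪≫ₗ e2)
  rw [h1, maximalIdeal_mem_ass_iff_of_surjective hb.2]
  exact LinearEquiv.isAssociatedPrime_iff (stalkPullbackEquivOfBijective f E x hb)

/-- lengths of stalks of a pullback at a point where the stalk map is bijective -/
theorem length_pullback_of_bijective (E : Y.Modules) (x : X)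
    (hb : Function.Bijective (f.stalkMap x).hom) :
    Module.length (X.presheaf.stalk x) (((Scheme.Modules.pullback f).obj E).presheaf.stalk x) =
      Module.length (Y.presheaf.stalk (f x)) (E.presheaf.stalk (f x)) := by
  letI alg : Algebra (Y.presheaf.stalk (f x)) (X.presheaf.stalk x) := (f.stalkMap x).hom.toAlgebra
  let G := (Scheme.Modules.pullback f).obj E
  let e1 : (G.presheaf.stalk x) ≃ₗ[X.presheaf.stalk x]
      ((ModuleCat.extendScalars.{u, u, u} (f.stalkMap x).hom).obj ((stalkSh Y (f x)).obj E)) :=
    ((stalkPullbackIso f x).app E).toLinearEquiv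
  let e2 : ((ModuleCat.extendScalars.{u, u, u} (f.stalkMap x).hom).obj ((stalkSh Y (f x)).obj E))
      ≃ₗ[X.presheaf.stalk x]
      ((X.presheaf.stalk x) ⊗[Y.presheaf.stalk (f x)] (E.presheaf.stalk (f x))) :=
    Groth.Agent.Helper8.extScalEquiv (R := Y.presheaf.stalk (f x)) (S := X.presheaf.stalk x)
      ((stalkSh Y (f x)).obj E)
  have h1 : Module.length (X.presheaf.stalk x) (G.presheaf.stalk x) =
      Module.length (X.presheaf.stalk x)
        ((X.presheaf.stalk x) ⊗[Y.presheaf.stalk (f x)] (E.presheaf.stalk (f x))) :=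
    (e1 ≪≫ₗ e2).length_eq
  rw [h1, ← Module.length_eq_of_surjective hb.2]
  exact (stalkPullbackEquivOfBijective f E x hb).length_eq

end Groth.Agent.Lib.Helper5.RedOpen
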