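import Mathlib
import Groth.Prelude.Def_FDesc
import Groth.Prelude.Def_CohB1
import Groth.Agent.Lib.Helper5.RedOpen.Bij
import Groth.Agent.Lib.Helper4.CohSk1
import Groth.Agent.Lib.Lead.SD1

/-!
# Reduced modules and dense opens (helper5)
-/

set_option autoImplicit false
set_option linter.unusedSectionVars false
set_option linter.unusedVariables false
set_option backward.isDefEq.respectTransparency.types false
universe u
open CategoryTheory CategoryTheory.Limits AlgebraicGeometry TopologicalSpace TensorProduct IsLocalRing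

namespace Groth.Agent.Lib.Helper5.RedOpen

attribute [local instance] Groth.Agent.Lead.SD.stalkModule

variable {X : Scheme.{u}}

/-- at a point of the support, the annihilator of the sections over an affine open lies in the
prime of the point -/
theorem annihilator_le_of_mem_support (F : X.Modules) [F.IsQuasicoherent] {V : X.Opens}
    (hV : IsAffineOpen V) (u : V) (hu : u.1 ∈ CohB1.support F) :
    Module.annihilator Γ(X, V) Γ(F, V) ≤ (hV.primeIdealOf u).asIdeal := by
  intro a ha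
  by_contra hna
  apply hu
  haveI := Groth.Agent.Lead.SD.isLocalizedModule_germ F hV u
  have hunit : IsUnit (X.presheaf.germ V u.1 u.2 a) :=
    (Groth.Agent.Lead.SD.isUnit_germ_iff hV u a).2 hna
  have hz : ∀ m : Γ(F, V), Groth.Agent.Lead.SD.germₗ F u m = 0 := by
    intro m
    have h1 : a • m = 0 := Module.mem_annihilator.mp ha m
    have h2 : a • Groth.Agent.Lead.SD.germₗ F u m = 0 := by
      rw [← map_smul, h1, map_zero]
    rw [Groth.Agent.Lead.SD.smul_stalk_def] at h2
    exact (hunit.smul_eq_zero).mp h2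
  refine ⟨fun p q => ?_⟩
  obtain ⟨⟨m, s⟩, hm⟩ := IsLocalizedModule.surj (hV.primeIdealOf u).asIdeal.primeCompl
    (Groth.Agent.Lead.SD.germₗ F u) p
  obtain ⟨⟨m', s'⟩, hm'⟩ := IsLocalizedModule.surj (hV.primeIdealOf u).asIdeal.primeCompl
    (Groth.Agent.Lead.SD.germₗ F u) q
  have hp : p = 0 := by
    have h3 : (s : Γ(X, V)) • p = 0 := by rw [← hz m]; exact hm
    have hsu : IsUnit (X.presheaf.germ V u.1 u.2 (s : Γ(X, V))) :=
      (Groth.Agent.Lead.SD.isUnit_germ_iff hV u s).2 s.2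
    rw [Groth.Agent.Lead.SD.smul_stalk_def] at h3
    exact (hsu.smul_eq_zero).mp h3
  have hq : q = 0 := by
    have h3 : (s' : Γ(X, V)) • q = 0 := by rw [← hz m']; exact hm'
    have hsu : IsUnit (X.presheaf.germ V u.1 u.2 (s' : Γ(X, V))) :=
      (Groth.Agent.Lead.SD.isUnit_germ_iff hV u s').2 s'.2
    rw [Groth.Agent.Lead.SD.smul_stalk_def] at h3
    exact (hsu.smul_eq_zero).mp h3
  rw [hp, hq]


/-- **an associated point of a coherent module without embedded points lies in every open whose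
trace on the support is dense in the support** -/
theorem mem_open_of_isAssPoint [IsLocallyNoetherian X] (U : X.Opens) (F : X.Modules)
    (hF : Coh.IsCoh F) (hdense : CohB1.support F ⊆ closure ((U : Set ↥X) ∩ CohB1.support F))
    (hne : AssSch.NoEmbedded F) (x : X) (hx : Curv2.IsAssPoint F x) : x ∈ U := by
  haveI := hF.1
  obtain ⟨V, hV, hxV⟩ : ∃ V : X.Opens, IsAffineOpen V ∧ x ∈ V := by
    obtain ⟨_, ⟨V, hV, rfl⟩, hxV, -⟩ :=
      X.isBasis_affineOpens.exists_subset_of_mem_open (Set.mem_univ x) isOpen_univ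
    exact ⟨V, hV, hxV⟩
  haveI : IsNoetherianRing Γ(X, V) := IsLocallyNoetherian.component_noetherian ⟨V, hV⟩
  haveI : Module.Finite Γ(X, V) Γ(F, V) :=
    Groth.Agent.Lib.Helper4.CohSk1.finite_sections F hV hF.2
  obtain ⟨x₀, hx₀⟩ : ∃ x₀ : V, x₀.1 = x := ⟨⟨x, hxV⟩, rfl⟩
  have hxS : x ∈ CohB1.support F := by
    intro hsub
    haveI := hsub
    exact not_isAssociatedPrime_of_subsingleton hx
  have hIP : Module.annihilator Γ(X, V) Γ(F, V) ≤ (hV.primeIdealOf x₀).asIdeal :=
    annihilator_le_of_mem_support F hV x₀ (by rw [hx₀]; exact hxS)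
  -- the prime of `x` is minimal over the annihilator
  have hPmin : (hV.primeIdealOf x₀).asIdeal ∈
      (Module.annihilator Γ(X, V) Γ(F, V)).minimalPrimes := by
    obtain ⟨Q, hQmin, hQP⟩ := Ideal.exists_minimalPrimes_le hIP
    have hQass : Q ∈ associatedPrimes Γ(X, V) Γ(F, V) :=
      Module.associatedPrimes.minimalPrimes_annihilator_subset_associatedPrimes _ _ hQmin
    have hQp : Q.IsPrime := hQmin.1.1
    obtain ⟨y₀, hy₀⟩ : ∃ y₀ : V, hV.primeIdealOf y₀ = ⟨Q, hQp⟩ :=
      ⟨⟨_, Groth.Agent.Lead.SD.fromSpec_mem hV _⟩, Groth.Agent.Lead.SD.primeIdealOf_fromSpec hV _⟩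
    have hyass : Curv2.IsAssPoint F y₀.1 := by
      rw [Groth.Agent.Lib.Helper4.CohSk1.ass_iff F hV y₀, hy₀]
      exact hQass
    have hspec : y₀.1 ⤳ x₀.1 := by
      rw [Groth.Agent.Lib.Helper4.CohSk1.spec_iff hV x₀ y₀, hy₀]
      exact hQP
    have heq : x₀.1 = y₀.1 := hne x₀.1 (by rw [hx₀]; exact hx) y₀.1 hyass hspec
    have heq' : x₀ = y₀ := Subtype.ext heq
    rw [heq', hy₀]
    exact hQmin
  -- an element outside the prime of `x` lying in all other minimal primes
  have hfin : ((Module.annihilator Γ(X, V) Γ(F, V)).minimalPrimes \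
      {(hV.primeIdealOf x₀).asIdeal}).Finite :=
    (Ideal.finite_minimalPrimes_of_isNoetherianRing Γ(X, V) _).subset Set.sdiff_subset
  obtain ⟨g, hgP, hgQ⟩ : ∃ g : Γ(X, V), g ∉ (hV.primeIdealOf x₀).asIdeal ∧
      ∀ Q ∈ (Module.annihilator Γ(X, V) Γ(F, V)).minimalPrimes,
        Q ≠ (hV.primeIdealOf x₀).asIdeal → g ∈ Q := by
    have hnle : ¬ (hfin.toFinset.inf id ≤ (hV.primeIdealOf x₀).asIdeal) := by
      intro hle
      obtain ⟨Q, hQS, hQP⟩ := (Ideal.IsPrime.inf_le' (hV.primeIdealOf x₀).2).mp hle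
      rw [Set.Finite.mem_toFinset] at hQS
      have hPQ : (hV.primeIdealOf x₀).asIdeal ≤ Q := hPmin.2 hQS.1.1 hQP
      exact hQS.2 (le_antisymm hQP hPQ)
    obtain ⟨g, hg, hgP⟩ := SetLike.not_le_iff_exists.mp hnle
    refine ⟨g, hgP, fun Q hQ hQne => ?_⟩
    have := (Submodule.mem_finsetInf.mp hg) Q (by
      rw [Set.Finite.mem_toFinset]
      exact ⟨hQ, hQne⟩)
    exact this
  -- the basic open of `g` meets the dense part of the support
  have hxW : x ∈ X.basicOpen g := by
    rw [← hx₀]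
    exact (Groth.Agent.Lead.SD.mem_basicOpen_iff hV x₀ g).2 hgP
  obtain ⟨u, huW, huU, huS⟩ := mem_closure_iff.mp (hdense hxS) (X.basicOpen g)
    (X.basicOpen g).isOpen hxW
  have huV : u ∈ V := X.basicOpen_le g huW
  obtain ⟨u₀, hu₀⟩ : ∃ u₀ : V, u₀.1 = u := ⟨⟨u, huV⟩, rfl⟩
  have hgu : g ∉ (hV.primeIdealOf u₀).asIdeal :=
    (Groth.Agent.Lead.SD.mem_basicOpen_iff hV u₀ g).1 (by rw [hu₀]; exact huW)
  have hIu : Module.annihilator Γ(X, V) Γ(F, V) ≤ (hV.primeIdealOf u₀).asIdeal :=
    annihilator_le_of_mem_support F hV u₀ (by rw [hu₀]; exact huS)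
  obtain ⟨Q, hQmin, hQu⟩ := Ideal.exists_minimalPrimes_le hIu
  have hQP : Q = (hV.primeIdealOf x₀).asIdeal := by
    by_contra hQne
    exact hgu (hQu (hgQ Q hQmin hQne))
  have hspec : x₀.1 ⤳ u₀.1 := by
    rw [Groth.Agent.Lib.Helper4.CohSk1.spec_iff hV u₀ x₀]
    intro a ha
    exact hQu (hQP ▸ ha)
  rw [hx₀, hu₀] at hspec
  exact hspec.mem_open U.isOpen huU


theorem bijective_stalkMap_ι (U : X.Opens) (u : U) :
    Function.Bijective ((U.ι.stalkMap u).hom) :=
  (ConcreteCategory.isIso_iff_bijective (U.ι.stalkMap u)).mp inferInstance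

/-- **a coherent module is reduced iff it is reduced on an open dense in its support and has no
embedded associated points** -/
theorem isReducedMod_iff_restrict [IsLocallyNoetherian X] (U : X.Opens) (F : X.Modules)
    (hF : Coh.IsCoh F) (hdense : CohB1.support F ⊆ closure ((U : Set ↥X) ∩ CohB1.support F)) :
    AssSch.IsReducedMod F ↔
      AssSch.IsReducedMod ((Scheme.Modules.pullback U.ι).obj F) ∧ AssSch.NoEmbedded F := by
  constructor
  · rintro ⟨hne, hlen⟩
    refine ⟨⟨?_, ?_⟩, hne⟩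
    · intro u hu u' hu' hs
      have h1 := (isAssPoint_pullback_iff_of_bijective U.ι F u (bijective_stalkMap_ι U u)).mp hu
      have h2 := (isAssPoint_pullback_iff_of_bijective U.ι F u' (bijective_stalkMap_ι U u')).mp hu'
      have h3 : U.ι u' ⤳ U.ι u := hs.map U.ι.continuous
      exact U.ι.isOpenEmbedding.injective (hne _ h1 _ h2 h3)
    · intro u hu
      have h1 := (isAssPoint_pullback_iff_of_bijective U.ι F u (bijective_stalkMap_ι U u)).mp hu
      rw [length_pullback_of_bijective U.ι F u (bijective_stalkMap_ι U u)]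
      exact hlen _ h1
  · rintro ⟨⟨hneU, hlenU⟩, hne⟩
    refine ⟨hne, ?_⟩
    intro x hx
    have hxU : x ∈ U := mem_open_of_isAssPoint U F hF hdense hne x hx
    obtain ⟨u, rfl⟩ : ∃ u : U, U.ι u = x := ⟨⟨x, hxU⟩, rfl⟩
    have h1 := (isAssPoint_pullback_iff_of_bijective U.ι F u (bijective_stalkMap_ι U u)).mpr hx
    rw [← length_pullback_of_bijective U.ι F u (bijective_stalkMap_ι U u)]
    exact hlenU u h1

end Groth.Agent.Lib.Helper5.RedOpen
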